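import Groth.Agent.CohCmpLib.HomMod

/-!
# The abstract sheaf of homomorphisms is the concrete one
-/

set_option autoImplicit false

noncomputable section

universe u

open CategoryTheory CategoryTheory.Limits AlgebraicGeometry TopologicalSpace Opposite
open CohCmpLib (homMod curryMod evMod curryMod_comp hom_homMod_ext)

namespace HomCohLib

variable {X : Scheme.{u}} (M : X.Modules)

/-- Currying as a bijection. -/
def curryEquiv (N P : X.Modules) : (((DCoh.tensorBi (X := X)).obj M).obj N ⟶ P) ≃ (N ⟶ homMod M P) where
  toFun := curryMod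
  invFun g := ((DCoh.tensorBi (X := X)).obj M).map g ≫ evMod M P
  left_inv := curryMod_comp
  right_inv g := hom_homMod_ext (curryMod_comp _)

/-- The functor of homomorphisms out of `M`, adjoint to `M ⊗ -`. -/
def homAdj : ((DCoh.tensorBi (X := X)).obj M) ⊣ Adjunction.rightAdjointOfEquiv (curryEquiv M) (fun N' N P f g =>
    hom_homMod_ext (by
      change ((DCoh.tensorBi (X := X)).obj M).map (curryMod (((DCoh.tensorBi (X := X)).obj M).map f ≫ g)) ≫ evMod M P =
        ((DCoh.tensorBi (X := X)).obj M).map (f ≫ curryMod g) ≫ evMod M P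
      rw [curryMod_comp, Functor.map_comp, Category.assoc, curryMod_comp])) :=
  Adjunction.adjunctionOfEquivRight _ _

/-- The chosen sheaf of homomorphisms is `homMod`. -/
def sheafHomIso [DCoh.HasSheafHom M] (N : X.Modules) : (DCoh.sheafHom M).obj N ≅ homMod M N :=
  ((DCoh.sheafHomAdj M).rightAdjointUniq (homAdj M)).app N

end HomCohLib

end
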