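import Groth.Agent.HomCohLib.Formal
import Groth.Agent.S4460
import Groth.Agent.ProperOverLib.Basic

/-!
# Completion is fully faithful on coherent modules whose supports meet properly
-/

set_option autoImplicit false

noncomputable section

universe u

open CategoryTheory CategoryTheory.Limits AlgebraicGeometry TopologicalSpace Opposite
open ProjFormLib (ger res ger_res ger_smul ger_add ger_map exists_ger section_ext)
open CohCmpLib (homMod homSec hVal happ ger_happ homMod_ext stk)

namespace HomCohLib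

variable {X : Scheme.{u}} {M N P : X.Modules}

/-- The morphism given by a global section of the sheaf of homomorphisms. -/
def toHom (s : Γ(homMod M N, (⊤ : X.Opens))) : M ⟶ N where
  val := PresheafOfModules.homMk
        { app := fun V => AddCommGrpCat.ofHom
            { toFun := fun m : Γ(M, V.unop) => (happ (res (homMod M N) le_top s) m : Γ(N, V.unop))
              map_zero' := map_zero (lin V.unop (res (homMod M N) le_top s))
              map_add' := happ_add_right _ }
          naturality := fun V W i => by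
            ext m
            exact (congrArg (fun t => happ t (res M i.unop.le m))
              (QCohLib.map_map' (homMod M N) (homOfLE i.unop.le) (homOfLE le_top) s).symm).trans
              (happ_res i.unop.le (res (homMod M N) le_top s) m) }
        (fun V r m => happ_smul_right _ _ _)

lemma toHom_app (s : Γ(homMod M N, (⊤ : X.Opens))) (V : X.Opens) (m : Γ(M, V)) :
    (toHom s).app V m = happ (res (homMod M N) le_top s) m := rfl

/-- The global section given by a morphism. -/
def ofHom (φ : M ⟶ N) : Γ(homMod M N, (⊤ : X.Opens)) :=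
  (⟨fun y => ((DerSch.stalkFunctor X y.1).map φ).hom, fun V _ m => ⟨φ.app V m, fun y hy => (ger_map φ y hy m).symm⟩⟩ :
    homSec M N ⊤)

lemma toHom_ofHom (φ : M ⟶ N) : toHom (ofHom φ) = φ := by
  refine Scheme.Modules.hom_ext _ _ fun V => ?_
  ext m
  refine section_ext _ _ fun y hy => ?_
  rw [toHom_app, ger_happ, CohCmpLib.hVal_res]
  exact ger_map φ y hy m

lemma ofHom_toHom (s : Γ(homMod M N, (⊤ : X.Opens))) : ofHom (toHom s) = s := by
  refine homMod_ext fun y hy => LinearMap.ext fun a => ?_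
  obtain ⟨V, hyV, t, rfl⟩ := exists_ger M y a
  show ((DerSch.stalkFunctor X y).map (toHom s)).hom (ger M y hyV t) = _
  rw [ger_map, toHom_app, ger_happ, CohCmpLib.hVal_res]

lemma toHom_mapR (φ : N ⟶ P) (s : Γ(homMod M N, (⊤ : X.Opens))) :
    toHom ((mapR M φ).app ⊤ s) = toHom s ≫ φ := by
  refine Scheme.Modules.hom_ext _ _ fun V => ?_
  ext m
  show (toHom ((mapR M φ).app ⊤ s)).app V m = φ.app V ((toHom s).app V m)
  rw [toHom_app, toHom_app, ← happ_mapR]
  exact congrArg (fun t => happ t m) (QCohLib.app_map (mapR M φ) _ s).symm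

/-- Cohomology in degree zero is the global sections. -/
def hh0 (P : X.Modules) : Coh.HH X P 0 ≃+ Γ(P, (⊤ : X.Opens)) :=
  (QCohLib.hEquiv ((QCohLib.toAbF X).obj P) 0).trans QCohLib.h0

lemma hh0_map {Q : X.Modules} (φ : P ⟶ Q) (x : Coh.HH X P 0) :
    hh0 Q (Sheaf.H.map ((SheafOfModules.toSheaf X.ringCatSheaf).map φ) 0 x) = φ.app ⊤ (hh0 P x) := by
  refine (congrArg QCohLib.h0 (QCohLib.hEquiv_map ((QCohLib.toAbF X).map φ) 0 x)).trans ?_
  exact QCohLib.h0_comp _ _

lemma ofHom_comp (φ : M ⟶ N) (g : N ⟶ P) : (mapR M g).app ⊤ (ofHom φ) = ofHom (φ ≫ g) := by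
  rw [← ofHom_toHom ((mapR M g).app ⊤ (ofHom φ)), toHom_mapR, toHom_ofHom]

variable {A : Type u} [CommRing A] [IsNoetherianRing A] (I : Ideal A)
  [IsAdicComplete I A] [X.Over (Spec (CommRingCat.of A))] [LocallyOfFiniteType (X ↘ Spec (CommRingCat.of A))]
  [QuasiCompact (X ↘ Spec (CommRingCat.of A))]

/-- Global sections of a coherent module with proper support are the compatible systems of sections. -/
theorem existsUnique_section (hP : Coh.IsCoh P)
    (hs : ClSub.IsProperOver (X ↘ Spec (CommRingCat.of A)) (CohB1.support P))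
    (z : ∀ k, Γ(Formal.modPow I (k + 1) P, (⊤ : X.Opens)))
    (hz : ∀ k, (Formal.modPowTrans I (k + 1) P).app ⊤ (z (k + 1)) = z k) :
    ∃! s : Γ(P, (⊤ : X.Opens)), ∀ k, (Formal.modPowπ I (k + 1) P).app ⊤ s = z k := by
  have hbij := Groth.Agent.S4460.result A I X P hP hs 0
  let y : Formal.HHlim I P 0 := ⟨fun k => (hh0 _).symm (z k), fun k => (hh0 _).injective (by
    refine (hh0_map (Formal.modPowTrans I (k + 1) P) _).trans ?_
    rw [AddEquiv.apply_symm_apply, AddEquiv.apply_symm_apply, hz])⟩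
  have hmap : ∀ x k, (Formal.modPowπ I (k + 1) P).app ⊤ (hh0 _ x) = hh0 _ ((Formal.toHHlim I P 0 x).1 k) :=
    fun x k => (hh0_map _ _).symm
  obtain ⟨x, hx⟩ := hbij.2 y
  refine ⟨hh0 _ x, fun k => ?_, fun s hs => ?_⟩
  · rw [hmap, hx]
    exact AddEquiv.apply_symm_apply _ _
  · obtain ⟨x', rfl⟩ := (hh0 P).surjective s
    refine congrArg _ (hbij.1 (Subtype.ext (funext fun k => (hh0 _).injective ?_)))
    rw [← hmap, hs, hx]
    exact (AddEquiv.apply_symm_apply _ _).symm

lemma isProperOver_homMod (hM : Coh.IsCoh M) (hN : Coh.IsCoh N)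
    (hs : ClSub.IsProperOver (X ↘ Spec (CommRingCat.of A)) (CohB1.support M ∩ CohB1.support N)) :
    ClSub.IsProperOver (X ↘ Spec (CommRingCat.of A)) (CohB1.support (homMod M N)) := by
  have : IsLocallyNoetherian X := LocallyOfFiniteType.isLocallyNoetherian (X ↘ Spec (CommRingCat.of A))
  have h := QCohLib.isClosed_support _ (isCoh_homMod hM hN).2
  refine ⟨h, ProperOverLib.isProper_comp_closedImmersion hs _ ?_⟩
  rw [ProperOverLib.range_subschemeι_vanishingIdeal ⟨_, h⟩]
  exact (support_homMod hM.2).trans (Set.inter_subset_inter le_rfl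
    ((QCohLib.isClosed_support N hN.2).closure_subset))

lemma modPowLE_self (N : X.Modules) (k : ℕ) : Formal2.modPowLE I (le_refl k) N = 𝟙 (Formal.modPow I k N) := by
  apply (cancel_epi (Formal.modPowπ I k N)).1
  rw [Formal2.modPowπ_modPowLE, Category.comp_id]

/-- Compatible morphisms to the quotients come from a unique morphism. -/
theorem existsUnique_of_system (hM : Coh.IsCoh M) (hN : Coh.IsCoh N)
    (hs : ClSub.IsProperOver (X ↘ Spec (CommRingCat.of A)) (CohB1.support M ∩ CohB1.support N))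
    (f : ∀ k, M ⟶ Formal.modPow I k N) (hf : ∀ {k l : ℕ} (h : k ≤ l), f l ≫ Formal2.modPowLE I h N = f k) :
    ∃! φ : M ⟶ N, ∀ k, φ ≫ Formal.modPowπ I k N = f k := by
  have : IsLocallyNoetherian X := LocallyOfFiniteType.isLocallyNoetherian (X ↘ Spec (CommRingCat.of A))
  have : CompactSpace X := QuasiCompact.compactSpace_of_compactSpace (X ↘ Spec (CommRingCat.of A))
  have : AlgebraicGeometry.IsNoetherian X := {}
  obtain ⟨c, σ, hσ1, hσ0, hσ2, -⟩ := exists_proIso I M N hM hN
  obtain ⟨s, hs0, hs1⟩ := existsUnique_section I (isCoh_homMod hM hN) (isProperOver_homMod hM hN hs)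
    (fun k => (σ (k + 1)).app ⊤ (ofHom (f (k + 1 + c + c)))) fun k => by
      show (σ (k + 1 + 1) ≫ Formal2.modPowLE I (Nat.le_succ (k + 1)) (homMod M N)).app ⊤ _ = _
      rw [hσ1 (k + 1)]
      refine congrArg (fun v => (σ (k + 1)).app ⊤ v) ?_
      exact (ofHom_comp _ _).trans (congrArg ofHom (hf _))
  refine ⟨toHom s, fun k => ?_, fun φ hφ => ?_⟩
  · suffices h : toHom s ≫ Formal.modPowπ I (k + 1) N = f (k + 1) by
      rw [← Formal2.modPowπ_modPowLE I (Nat.le_succ k) N, ← Category.assoc, h, hf]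
    let ρ : Formal.modPow I (k + 1) (homMod M N) ⟶ lvl I M N (k + 1) :=
      cokernel.desc _ (toLvl I M N (k + 1)) (by
        refine Sigma.hom_ext _ _ fun a => ?_
        rw [Formal.smulFamily, Sigma.ι_desc_assoc, comp_zero]
        exact smul_toLvl I M N (k + 1) a.2)
    have hρ : Formal.modPowπ I (k + 1) (homMod M N) ≫ ρ = toLvl I M N (k + 1) := cokernel.π_desc _ _ _
    rw [← toHom_mapR, show mapR M (Formal.modPowπ I (k + 1) N) = toLvl I M N (k + 1) from rfl, ← hρ]
    show toHom (ρ.app ⊤ ((Formal.modPowπ I (k + 1) (homMod M N)).app ⊤ s)) = _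
    rw [hs0 k]
    show toHom ((σ (k + 1) ≫ ρ).app ⊤ (ofHom (f (k + 1 + c + c)))) = _
    rw [hσ2 (k + 1) ρ (𝟙 _) (by rw [Category.comp_id, hρ]), Category.comp_id, ofHom_comp, hf, toHom_ofHom]
  · rw [← toHom_ofHom φ]
    refine congrArg toHom (hs1 _ fun k => ?_)
    rw [← hφ, ← ofHom_comp, ← hσ0 (k + 1)]
    rfl

/-- The same, indexed from one. -/
theorem existsUnique_of_succ_system (hM : Coh.IsCoh M) (hN : Coh.IsCoh N)
    (hs : ClSub.IsProperOver (X ↘ Spec (CommRingCat.of A)) (CohB1.support M ∩ CohB1.support N))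
    (g : ∀ k, M ⟶ Formal.modPow I (k + 1) N)
    (hg1 : ∀ k, g (k + 1) ≫ Formal2.modPowLE I (Nat.succ_le_succ (Nat.le_succ k)) N = g k) :
    ∃! φ : M ⟶ N, ∀ k, φ ≫ Formal.modPowπ I (k + 1) N = g k := by
  have hg : ∀ {k l : ℕ} (h : k ≤ l), g l ≫ Formal2.modPowLE I (Nat.succ_le_succ h) N = g k := by
    intro k l h
    induction l, h using Nat.le_induction with
    | base => rw [modPowLE_self, Category.comp_id]
    | succ l h ih =>
      rw [← modPowLE_comp I N (Nat.succ_le_succ h) (Nat.succ_le_succ (Nat.le_succ l)), ← Category.assoc, hg1, ih]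
  obtain ⟨φ, hφ, hu⟩ := existsUnique_of_system I hM hN hs (fun k => g k ≫ Formal2.modPowLE I (Nat.le_succ k) N)
    fun {k l} h => by
      rw [Category.assoc, modPowLE_comp, ← hg h, Category.assoc, modPowLE_comp]
  refine ⟨φ, fun n => ?_, fun φ' hφ' => hu φ' fun k => ?_⟩
  · rw [hφ]
    exact hg1 n
  · show _ = g k ≫ _
    rw [← Formal2.modPowπ_modPowLE I (Nat.le_succ k) N, ← Category.assoc, hφ']

/-- **Completion is fully faithful** on a pair of coherent modules whose supports meet properly. -/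
theorem existsUnique_of_completion_hom (hM : Coh.IsCoh M) (hN : Coh.IsCoh N)
    (hs : ClSub.IsProperOver (X ↘ Spec (CommRingCat.of A)) (CohB1.support M ∩ CohB1.support N))
    (ψ : Formal.completion I M ⟶ Formal.completion I N) :
    ∃! φ : M ⟶ N, ∀ n : ℕ, Formal.modPowπ I (n + 1) M ≫ ψ.app (op n) = φ ≫ Formal.modPowπ I (n + 1) N := by
  let g : ∀ k, M ⟶ Formal.modPow I (k + 1) N := fun k => Formal.modPowπ I (k + 1) M ≫ ψ.app (op k)
  have hg1 : ∀ k, g (k + 1) ≫ Formal2.modPowLE I (Nat.succ_le_succ (Nat.le_succ k)) N = g k := by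
    intro k
    have hn : Formal.modPowTrans I (k + 1) M ≫ ψ.app (op k) = ψ.app (op (k + 1)) ≫ Formal.modPowTrans I (k + 1) N := by
      have := ψ.naturality (homOfLE (Nat.le_succ k)).op
      simp only [Formal.completion, Functor.ofOpSequence_map_homOfLE_succ] at this
      exact this
    show (Formal.modPowπ I (k + 1 + 1) M ≫ ψ.app (op (k + 1))) ≫ Formal.modPowTrans I (k + 1) N = _
    refine (Category.assoc _ _ _).trans ((congrArg (fun t => Formal.modPowπ I (k + 1 + 1) M ≫ t) hn.symm).trans ?_)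
    exact (Category.assoc _ _ _).symm.trans (congrArg (fun t => t ≫ ψ.app (op k)) (Formal.modPowπ_trans I (k + 1) M))
  obtain ⟨φ, hφ, hu⟩ := existsUnique_of_succ_system I hM hN hs g hg1
  exact ⟨φ, fun n => (hφ n).symm, fun φ' hφ' => hu φ' fun k => (hφ' k).symm⟩

end HomCohLib

end
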