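import Groth.Agent.HomCohLib.Sec
import Groth.Agent.QCohLib.Coherent
import Mathlib.Algebra.Module.FinitePresentation

/-!
# Coherence of the sheaf of homomorphisms
-/

set_option autoImplicit false

noncomputable section

universe u

open CategoryTheory CategoryTheory.Limits AlgebraicGeometry TopologicalSpace Opposite
open ProjFormLib (ger res ger_res ger_smul ger_add ger_map exists_ger section_ext)
open CohCmpLib (homMod hVal happ ger_happ hVal_res hVal_smul hVal_add homMod_ext stk ger_zero homSec)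

namespace HomCohLib

variable {X : Scheme.{u}} {M N : X.Modules}

lemma happ_res {V W : X.Opens} (h : V ≤ W) (s : Γ(homMod M N, W)) (m : Γ(M, W)) :
    happ (res (homMod M N) h s) (res M h m) = res N h (happ s m) :=
  section_ext _ _ fun y hy => by
    rw [ger_happ, ger_res, ger_res, ger_happ, hVal_res]

variable {W : X.Opens}

lemma happ_add_right (s : Γ(homMod M N, W)) (m m' : Γ(M, W)) : happ s (m + m') = happ s m + happ s m' :=
  section_ext _ _ fun y hy => by rw [ger_happ, ger_add, map_add, ger_add, ger_happ, ger_happ]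

lemma happ_smul_right (s : Γ(homMod M N, W)) (r : Γ(X, W)) (m : Γ(M, W)) : happ s (r • m) = r • happ s m :=
  section_ext _ _ fun y hy => by rw [ger_happ, ger_smul, map_smul, ger_smul, ger_happ]

lemma happ_add_left (s t : Γ(homMod M N, W)) (m : Γ(M, W)) : happ (s + t) m = happ s m + happ t m :=
  section_ext _ _ fun y hy => by rw [ger_happ, hVal_add, LinearMap.add_apply, ger_add, ger_happ, ger_happ]

lemma happ_smul_left (s : Γ(homMod M N, W)) (r : Γ(X, W)) (m : Γ(M, W)) : happ (r • s) m = r • happ s m :=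
  section_ext _ _ fun y hy => by rw [ger_happ, hVal_smul, LinearMap.smul_apply, ger_smul, ger_happ]

/-- The map on sections given by a homomorphism. -/
def lin (W : X.Opens) : Γ(homMod M N, W) →ₗ[Γ(X, W)] (Γ(M, W) →ₗ[Γ(X, W)] Γ(N, W)) where
  toFun s := { toFun := happ s, map_add' := happ_add_right s, map_smul' := happ_smul_right s }
  map_add' s t := LinearMap.ext fun m => happ_add_left s t m
  map_smul' r s := LinearMap.ext fun m => happ_smul_left s r m

lemma lin_apply (s : Γ(homMod M N, W)) (m : Γ(M, W)) : lin W s m = happ s m := rfl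

/-- **Sections of the sheaf of homomorphisms on an affine open.** -/
theorem lin_bijective [Coh.IsQCoh M] {U : X.Opens} (hU : IsAffineOpen U) :
    Function.Bijective (lin (M := M) (N := N) U) := by
  refine ⟨fun s t h => hom_ext hU le_rfl s t fun m => ?_, fun f => ?_⟩
  · have e : res M (le_refl U) m = m := ConcreteCategory.congr_hom (M.presheaf.map_id (op U)) m
    rw [e]
    exact LinearMap.congr_fun h m
  · obtain ⟨s, hs⟩ := exists_hom hU f
    exact ⟨s, LinearMap.ext hs⟩

lemma pow_smul_le {U : X.Opens} {g : Γ(X, U)} {P : X.Modules} {x : Γ(P, U)} {k k' : ℕ} (h : k ≤ k')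
    (hx : g ^ k • x = 0) : g ^ k' • x = 0 := by
  obtain ⟨d, rfl⟩ := Nat.exists_eq_add_of_le h
  rw [add_comm, pow_add, mul_smul, hx, smul_zero]

section Loc

variable [Coh.IsQCoh M] [Coh.IsQCoh N] {U : X.Opens} (hU : IsAffineOpen U)

include hU in
lemma exists_kill_lin [Module.Finite Γ(X, U) Γ(M, U)] (g : Γ(X, U)) (f : Γ(M, U) →ₗ[Γ(X, U)] Γ(N, U))
    (h : ∀ m, res N (X.basicOpen_le g) (f m) = 0) : ∃ k : ℕ, g ^ k • f = 0 := by
  classical
  obtain ⟨n, v, hv⟩ := Module.Finite.exists_fin (R := Γ(X, U)) (M := Γ(M, U))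
  have hk : ∀ i, ∃ k : ℕ, g ^ k • f (v i) = 0 := fun i => by
    obtain ⟨k, hk⟩ := (QCohLib.localizingAt_of_isQCoh hU N g).eq_zero (f (v i)) (h (v i))
    refine ⟨k, Eq.trans ?_ hk⟩
    congr 2
    exact (ConcreteCategory.congr_hom (X.presheaf.map_id (op U)) g).symm
  choose k hk using hk
  refine ⟨Finset.univ.sup k, LinearMap.ext_on_range hv fun i => ?_⟩
  exact pow_smul_le (Finset.le_sup (Finset.mem_univ i)) (hk i)

include hU in
lemma exists_extend_lin [Module.FinitePresentation Γ(X, U) Γ(M, U)] (g : Γ(X, U))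
    (s : Γ(homMod M N, X.basicOpen g)) :
    ∃ (k : ℕ) (f : Γ(M, U) →ₗ[Γ(X, U)] Γ(N, U)), ∀ m, res N (X.basicOpen_le g) (f m) =
      (X.presheaf.map (homOfLE (X.basicOpen_le g)).op g) ^ k • happ s (res M (X.basicOpen_le g) m) := by
  classical
  obtain ⟨n, v, hv⟩ := Module.Finite.exists_fin (R := Γ(X, U)) (M := Γ(M, U))
  let g' := X.presheaf.map (homOfLE (X.basicOpen_le g)).op g
  have hk : ∀ i, ∃ (k : ℕ) (t : Γ(N, U)), res N (X.basicOpen_le g) t =
      g' ^ k • happ s (res M (X.basicOpen_le g) (v i)) := fun i => by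
    obtain ⟨k, t, ht⟩ := (QCohLib.localizingAt_of_isQCoh hU N g).exists_extend
      (happ s (res M (X.basicOpen_le g) (v i)))
    exact ⟨k, t, ht⟩
  choose k t ht using hk
  let K := Finset.univ.sup k
  let p : (Fin n → Γ(X, U)) →ₗ[Γ(X, U)] Γ(M, U) := Fintype.linearCombination Γ(X, U) v
  let q : (Fin n → Γ(X, U)) →ₗ[Γ(X, U)] Γ(N, U) :=
    Fintype.linearCombination Γ(X, U) fun i => g ^ (K - k i) • t i
  have hp : Function.Surjective p := by
    rw [← LinearMap.range_eq_top, Fintype.range_linearCombination]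
    exact hv
  have hres : ∀ c, res N (X.basicOpen_le g) (q c) = g' ^ K • happ s (res M (X.basicOpen_le g) (p c)) := by
    intro c
    have e1 : res N (X.basicOpen_le g) (q c) = ∑ i, res N (X.basicOpen_le g) (c i • g ^ (K - k i) • t i) :=
      (congrArg (res N (X.basicOpen_le g)) (Fintype.linearCombination_apply ..)).trans
        (map_sum (N.presheaf.map (homOfLE (X.basicOpen_le g)).op).hom _ _)
    have e2 : res M (X.basicOpen_le g) (p c) = ∑ i, res M (X.basicOpen_le g) (c i • v i) :=
      (congrArg (res M (X.basicOpen_le g)) (Fintype.linearCombination_apply ..)).trans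
        (map_sum (M.presheaf.map (homOfLE (X.basicOpen_le g)).op).hom _ _)
    rw [e1, e2, ← lin_apply, map_sum, Finset.smul_sum]
    refine Finset.sum_congr rfl fun i _ => ?_
    rw [res_smul, res_smul, res_smul, map_pow, ht, map_smul, lin_apply, smul_comm (g' ^ K), ← mul_smul (g' ^ (K - k i)),
      ← pow_add, Nat.sub_add_cancel (Finset.le_sup (Finset.mem_univ i))]
  obtain ⟨r, hr⟩ := Module.FinitePresentation.fg_ker p hp
  have hj : ∀ c ∈ r, ∃ j : ℕ, g ^ j • q c = 0 := fun c hc => by
    have hpc : p c = 0 := hr.le (Submodule.subset_span hc)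
    obtain ⟨j, hj⟩ := (QCohLib.localizingAt_of_isQCoh hU N g).eq_zero (q c) (by
      show res N (X.basicOpen_le g) (q c) = 0
      rw [hres, hpc, ← lin_apply, show res M (X.basicOpen_le g) (0 : Γ(M, U)) = 0 from map_zero _, map_zero,
        smul_zero])
    refine ⟨j, Eq.trans ?_ hj⟩
    congr 2
    exact (ConcreteCategory.congr_hom (X.presheaf.map_id (op U)) g).symm
  choose! j hj using hj
  let J := r.sup j
  have hle : LinearMap.ker p ≤ LinearMap.ker (g ^ J • q) := by
    rw [← hr, Submodule.span_le]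
    exact fun c hc => LinearMap.mem_ker.2 (pow_smul_le (Finset.le_sup hc) (hj c hc))
  let f := ((LinearMap.ker p).liftQ _ hle).comp (p.quotKerEquivOfSurjective hp).symm.toLinearMap
  refine ⟨J + K, f, fun m => ?_⟩
  obtain ⟨c, rfl⟩ := hp m
  have hf : f (p c) = g ^ J • q c := by
    show (LinearMap.ker p).liftQ _ hle ((p.quotKerEquivOfSurjective hp).symm (p c)) = _
    rw [LinearMap.quotKerEquivOfSurjective_symm_apply]
    rfl
  rw [hf, res_smul, map_pow, hres, ← mul_smul, ← pow_add]

include hU in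
theorem localizingAt_homMod [Module.FinitePresentation Γ(X, U) Γ(M, U)] (g : Γ(X, U)) :
    QCohLib.LocalizingAt (homMod M N) g where
  exists_extend s := by
    obtain ⟨k, f, hf⟩ := exists_extend_lin hU g s
    obtain ⟨t, ht⟩ := (lin_bijective (N := N) hU).2 f
    refine ⟨k, t, hom_ext hU (X.basicOpen_le g) _ _ fun m => ?_⟩
    refine (happ_res (X.basicOpen_le g) t m).trans ?_
    rw [happ_smul_left, ← lin_apply t, ht]
    exact hf m
  eq_zero t h := by
    obtain ⟨k, hk⟩ := exists_kill_lin hU g (lin U t) fun m => by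
      rw [lin_apply, ← happ_res, ← lin_apply, show res (homMod M N) (X.basicOpen_le g) t = 0 from h, map_zero]
      rfl
    refine ⟨k, (lin_bijective (N := N) hU).1 ?_⟩
    rw [map_zero, map_smul]
    refine Eq.trans ?_ hk
    congr 2
    exact ConcreteCategory.congr_hom (X.presheaf.map_id (op U)) g

end Loc

/-- **The sheaf of homomorphisms of coherent modules is coherent.** -/
theorem isCoh_homMod [IsLocallyNoetherian X] (hM : Coh.IsCoh M) (hN : Coh.IsCoh N) : Coh.IsCoh (homMod M N) := by
  have : Coh.IsQCoh M := hM.1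
  have : Coh.IsQCoh N := hN.1
  have hq : Coh.IsQCoh (homMod M N) := (QCohLib.isQCoh_iff_localizingAt _).2 fun U hU g => by
    have : IsNoetherianRing Γ(X, U) := IsLocallyNoetherian.component_noetherian ⟨U, hU⟩
    have := QCohLib.finite_of_isFT hM.2 hU
    have := Module.finitePresentation_of_finite Γ(X, U) Γ(M, U)
    exact localizingAt_homMod hU g
  refine ⟨hq, QCohLib.isFT_of_finite fun x => ?_⟩
  obtain ⟨U, hU, hx⟩ := QCohLib.exists_affine_nhd x
  have : IsNoetherianRing Γ(X, U) := IsLocallyNoetherian.component_noetherian ⟨U, hU⟩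
  have := QCohLib.finite_of_isFT hM.2 hU
  have := QCohLib.finite_of_isFT hN.2 hU
  exact ⟨U, hU, hx, Module.Finite.of_injective (lin (M := M) (N := N) U) (lin_bijective hU).1⟩

/-- The sheaf of homomorphisms is supported where both modules are. -/
theorem support_homMod (hM : CohB1.IsFT M) :
    CohB1.support (homMod M N) ⊆ CohB1.support M ∩ closure (CohB1.support N) := by
  intro y hy
  by_contra hc
  refine hy (subsingleton_of_forall_eq 0 fun a => ?_)
  obtain ⟨V, hyV, s, rfl⟩ := TopCat.Presheaf.exists_germ_eq (homMod M N).presheaf (x := y) a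
  obtain ⟨W₀, hyW, hzero⟩ : ∃ W₀ : X.Opens, y ∈ W₀ ∧ ∀ z ∈ W₀, z ∉ CohB1.support M ∨ z ∉ CohB1.support N := by
    by_cases h : y ∈ CohB1.support M
    · exact ⟨⟨(closure (CohB1.support N))ᶜ, isClosed_closure.isOpen_compl⟩, fun h' => hc ⟨h, h'⟩,
        fun z hz => .inr fun h' => hz (subset_closure h')⟩
    · exact ⟨⟨(CohB1.support M)ᶜ, (QCohLib.isClosed_support M hM).isOpen_compl⟩, h, fun z hz => .inl hz⟩
  refine (ger_res (homMod M N) (inf_le_left : V ⊓ W₀ ≤ V) y ⟨hyV, hyW⟩ s).symm.trans ?_
  have e : res (homMod M N) (inf_le_left : V ⊓ W₀ ≤ V) s = 0 := by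
    refine homMod_ext fun z hz => LinearMap.ext fun a => ?_
    rcases hzero z hz.2 with h | h
    · have : Subsingleton (stk M z) := not_not.1 h
      rw [Subsingleton.elim a 0, map_zero, map_zero]
    · have : Subsingleton (stk N z) := not_not.1 h
      exact Subsingleton.elim _ _
  rw [e]
  exact ger_zero _ y _

end HomCohLib

end
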