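import Mathlib.RingTheory.Filtration
import Mathlib.RingTheory.Finiteness.Basic
import Mathlib.LinearAlgebra.Quotient.Basic
import Mathlib.LinearAlgebra.Pi
import Mathlib.RingTheory.Noetherian.Basic

/-!
# Artin–Rees for modules of homomorphisms
-/

set_option autoImplicit false

universe u

namespace HomCohLib

variable {B : Type u} [CommRing B] {M N : Type u} [AddCommGroup M] [Module B M] [AddCommGroup N] [Module B N]

lemma mem_smul_top_pi' {κ : Type} [Finite κ] (K : Ideal B) (x : κ → N) :
    x ∈ (K • ⊤ : Submodule B (κ → N)) ↔ ∀ k, x k ∈ (K • ⊤ : Submodule B N) := by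
  classical
  have : Fintype κ := Fintype.ofFinite κ
  constructor
  · intro hx k
    have := Submodule.mem_map_of_mem (f := LinearMap.proj k) hx
    rw [Submodule.map_smul''] at this
    exact Submodule.smul_mono le_rfl le_top this
  · intro h
    rw [← Finset.univ_sum_single x]
    refine Submodule.sum_mem _ fun k _ => ?_
    have := Submodule.mem_map_of_mem (f := LinearMap.single B (fun _ : κ => N) k) (h k)
    rw [Submodule.map_smul''] at this
    exact Submodule.smul_mono le_rfl le_top this

lemma mem_of_mem_inf_smul [IsNoetherianRing B] [Module.Finite B N] (J : Ideal B) (R : Submodule B N) :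
    ∃ c, ∀ n (x : N), x ∈ R → x ∈ (J ^ (n + c) • ⊤ : Submodule B N) → x ∈ J ^ n • R := by
  obtain ⟨c, hc⟩ := Ideal.exists_pow_inf_eq_pow_smul (R := B) J R
  refine ⟨c, fun n x hx hx' => ?_⟩
  have := (hc (n + c) (Nat.le_add_left c n)).le ⟨hx', hx⟩
  rw [Nat.add_sub_cancel] at this
  exact Submodule.smul_mono le_rfl inf_le_right this

variable [IsNoetherianRing B] [Module.Finite B M] [Module.Finite B N]

/-- **Homomorphisms modulo powers of an ideal**: they lift after passing to lower powers, and those vanishing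
modulo a high power are small. -/
theorem exists_hom_bound (J : Ideal B) : ∃ c : ℕ,
    (∀ n (x : M → N), (∀ m m', x (m + m') - (x m + x m') ∈ (J ^ (n + c) • ⊤ : Submodule B N)) →
      (∀ (r : B) m, x (r • m) - r • x m ∈ (J ^ (n + c) • ⊤ : Submodule B N)) →
        ∃ h : M →ₗ[B] N, ∀ m, h m - x m ∈ (J ^ n • ⊤ : Submodule B N)) ∧
    ∀ n (h : M →ₗ[B] N), (∀ m, h m ∈ (J ^ (n + c) • ⊤ : Submodule B N)) →
      h ∈ (J ^ n • ⊤ : Submodule B (M →ₗ[B] N)) := by
  classical
  obtain ⟨b, v, hv⟩ := Module.Finite.exists_fin (R := B) (M := M)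
  let p : (Fin b → B) →ₗ[B] M := Fintype.linearCombination B v
  have hp : Function.Surjective p := by
    rw [← LinearMap.range_eq_top, Fintype.range_linearCombination]
    exact hv
  have hpv : ∀ i, p (Pi.single i 1) = v i := fun i => by
    rw [Fintype.linearCombination_apply_single, one_smul]
  obtain ⟨a, w, hw⟩ := Submodule.fg_iff_exists_fin_generating_family.1 (IsNoetherian.noetherian (LinearMap.ker p))
  let e : (M →ₗ[B] N) →ₗ[B] (Fin b → N) := LinearMap.pi fun i => LinearMap.applyₗ (v i)
  let d : (Fin b → N) →ₗ[B] (Fin a → N) := LinearMap.pi fun j => ∑ i, w j i • LinearMap.proj i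
  have hdx : ∀ x j, d x j = ∑ i, w j i • x i := fun x j => by
    simp [d, LinearMap.sum_apply]
  have hker : ∀ x, d x = 0 → ∃ h : M →ₗ[B] N, e h = x := by
    intro x hx
    let q : (Fin b → B) →ₗ[B] N := Fintype.linearCombination B x
    have hle : LinearMap.ker p ≤ LinearMap.ker q := by
      rw [← hw, Submodule.span_le]
      rintro _ ⟨j, rfl⟩
      show q (w j) = 0
      rw [Fintype.linearCombination_apply, ← hdx, hx]
      rfl
    refine ⟨((LinearMap.ker p).liftQ q hle).comp (p.quotKerEquivOfSurjective hp).symm.toLinearMap, funext fun i => ?_⟩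
    show (LinearMap.ker p).liftQ q hle ((p.quotKerEquivOfSurjective hp).symm (v i)) = x i
    rw [← hpv, LinearMap.quotKerEquivOfSurjective_symm_apply]
    show q (Pi.single i 1) = x i
    rw [Fintype.linearCombination_apply_single, one_smul]
  have hext : ∀ (h : M →ₗ[B] N) m, ∃ c : Fin b → B, m = ∑ i, c i • v i ∧ h m = ∑ i, c i • e h i := fun h m => by
    obtain ⟨c, rfl⟩ := hp m
    refine ⟨c, Fintype.linearCombination_apply .., ?_⟩
    rw [Fintype.linearCombination_apply, map_sum]
    exact Finset.sum_congr rfl fun i _ => map_smul _ _ _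
  obtain ⟨c₁, hc₁⟩ := mem_of_mem_inf_smul J (LinearMap.range e)
  obtain ⟨c₂, hc₂⟩ := mem_of_mem_inf_smul J (LinearMap.range d)
  refine ⟨c₁ + c₂, fun n x hadd hsmul => ?_, fun n h hh => ?_⟩
  · let K : Submodule B N := J ^ (n + (c₁ + c₂)) • ⊤
    have hlin : ∀ (c : Fin b → B), x (∑ i, c i • v i) - ∑ i, c i • x (v i) ∈ K := by
      intro c
      suffices ∀ s : Finset (Fin b), x (∑ i ∈ s, c i • v i) - ∑ i ∈ s, c i • x (v i) ∈ K from this _
      intro s
      induction s using Finset.induction_on with
      | empty =>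
        have := hsmul 0 0
        simpa using this
      | insert i s hi ih =>
        rw [Finset.sum_insert hi, Finset.sum_insert hi]
        have h1 := K.add_mem (K.add_mem (hadd (c i • v i) (∑ i ∈ s, c i • v i)) (hsmul (c i) (v i))) ih
        exact Eq.mpr (congrArg (· ∈ K) (by abel)) h1
    have hd : d (fun i => x (v i)) ∈ (J ^ (n + c₂) • ⊤ : Submodule B (Fin a → N)) := by
      refine (mem_smul_top_pi' _ _).2 fun j => ?_
      rw [hdx]
      have h1 : ∑ i, w j i • x (v i) ∈ K := by
        have hz : ∑ i, w j i • v i = 0 := by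
          have : w j ∈ LinearMap.ker p := hw.le (Submodule.subset_span ⟨j, rfl⟩)
          rwa [LinearMap.mem_ker, Fintype.linearCombination_apply] at this
        have h2 := hlin (w j)
        rw [hz] at h2
        have h3 := hsmul 0 0
        rw [zero_smul, zero_smul, sub_zero] at h3
        exact Eq.mpr (congrArg (· ∈ K) (by abel)) (K.sub_mem h3 h2)
      exact Submodule.smul_mono_left (Ideal.pow_le_pow_right (by omega)) h1
    obtain ⟨y, hy, hy'⟩ : ∃ y ∈ (J ^ n • ⊤ : Submodule B (Fin b → N)), d y = d (fun i => x (v i)) := by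
      have := hc₂ n _ ⟨_, rfl⟩ hd
      rwa [LinearMap.range_eq_map, ← Submodule.map_smul''] at this
    obtain ⟨h, hh⟩ := hker ((fun i => x (v i)) - y) (by rw [map_sub, hy', sub_self])
    refine ⟨h, fun m => ?_⟩
    obtain ⟨c, hm, hhm⟩ := hext h m
    rw [hhm, hh]
    have h1 : ∑ i, c i • x (v i) - x m ∈ (J ^ n • ⊤ : Submodule B N) := by
      rw [hm, ← neg_sub]
      exact neg_mem (Submodule.smul_mono_left (Ideal.pow_le_pow_right (by omega)) (hlin c))
    have h2 : ∑ i, c i • y i ∈ (J ^ n • ⊤ : Submodule B N) :=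
      Submodule.sum_mem _ fun i _ => Submodule.smul_mem _ _ ((mem_smul_top_pi' _ _).1 hy i)
    refine Eq.mpr (congrArg (· ∈ _) ?_) (Submodule.sub_mem _ h1 h2)
    simp only [Pi.sub_apply, smul_sub, Finset.sum_sub_distrib]
    abel
  · have h1 : e h ∈ (J ^ (n + c₁) • ⊤ : Submodule B (Fin b → N)) :=
      (mem_smul_top_pi' _ _).2 fun i => Submodule.smul_mono_left (Ideal.pow_le_pow_right (by omega)) (hh (v i))
    have h2 := hc₁ n _ ⟨h, rfl⟩ h1
    rw [LinearMap.range_eq_map, ← Submodule.map_smul''] at h2
    obtain ⟨h', hh', he⟩ := h2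
    have : h' = h := LinearMap.ext_on_range hv fun i => congrFun he i
    rwa [← this]

end HomCohLib
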