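import Groth.Agent.HomCohLib.Coh
import Groth.Agent.HomCohLib.Alg
import Groth.Agent.FormalLib.ModPow

/-!
# The system `Hom(M, N / I^n N)` is pro-isomorphic to `Hom(M, N) / I^n`
-/

set_option autoImplicit false

noncomputable section

universe u

open CategoryTheory CategoryTheory.Limits AlgebraicGeometry TopologicalSpace Opposite
open ProjFormLib (ger res ger_res ger_smul ger_add ger_map exists_ger section_ext)
open CohCmpLib (homMod hVal happ ger_happ homMod_ext stk curryMod evMod evS evS_ger evMod_app hVal_curryMod)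
open KFlatLib (shTm)
open FormalLib (Sec secMap toSec rhoA)

namespace HomCohLib

variable {X : Scheme.{u}}

section Map

variable (M : X.Modules) {N N' N'' : X.Modules}

/-- Composition with a morphism. -/
def mapR (φ : N ⟶ N') : homMod M N ⟶ homMod M N' := curryMod (evMod M N ≫ φ)

variable {M}

lemma happ_mapR (φ : N ⟶ N') {W : X.Opens} (s : Γ(homMod M N, W)) (m : Γ(M, W)) :
    happ ((mapR M φ).app W s) m = φ.app W (happ s m) := by
  refine section_ext _ _ fun y hy => ?_
  rw [ger_happ, mapR, hVal_curryMod, evS_ger]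
  exact congrArg (fun v => ger N' y hy (φ.app W v)) (evMod_app m s)

lemma mapR_ext {φ : homMod M N ⟶ homMod M N'} {ψ : homMod M N ⟶ homMod M N'}
    (h : ∀ (W : X.Opens) (s : Γ(homMod M N, W)) (m : Γ(M, W)), happ (φ.app W s) m = happ (ψ.app W s) m) : φ = ψ := by
  refine Scheme.Modules.hom_ext _ _ fun W => ?_
  ext s
  refine homMod_ext fun y hy => LinearMap.ext fun a => ?_
  obtain ⟨V, hyV, t, rfl⟩ := exists_ger M y a
  have hy' : y ∈ W ⊓ V := ⟨hy, hyV⟩
  have e : ∀ χ : homMod M N ⟶ homMod M N', hVal (χ.app W s) y hy (ger M y hyV t) =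
      ger N' y hy' (happ (χ.app (W ⊓ V) (res _ inf_le_left s)) (res M inf_le_right t)) := fun χ => by
    rw [ger_happ, ger_res, show χ.app (W ⊓ V) (res _ inf_le_left s) = res _ inf_le_left (χ.app W s) from
      QCohLib.app_map χ _ s, CohCmpLib.hVal_res]
  rw [e, e, h]

lemma mapR_comp (φ : N ⟶ N') (ψ : N' ⟶ N'') : mapR M (φ ≫ ψ) = mapR M φ ≫ mapR M ψ := by
  refine mapR_ext fun W s m => ?_
  show happ ((mapR M (φ ≫ ψ)).app W s) m = happ ((mapR M ψ).app W ((mapR M φ).app W s)) m
  rw [happ_mapR, happ_mapR, happ_mapR]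
  rfl

end Map

/-- A morphism out of a quasi-coherent module vanishes if it does on an affine cover. -/
lemma eq_zero_of_app {P Q : X.Modules} [Coh.IsQCoh P] (φ : P ⟶ Q) {ι : Type*} (U : ι → X.Opens)
    (hU : ∀ i, IsAffineOpen (U i)) (hcov : ∀ x : X, ∃ i, x ∈ U i) (h : ∀ i s, φ.app (U i) s = 0) : φ = 0 := by
  refine Scheme.Modules.hom_ext _ _ fun V => ?_
  ext s
  show φ.app V s = (0 : P ⟶ Q).app V s
  refine section_ext _ _ fun y hy => ?_
  rw [show (0 : P ⟶ Q).app V s = 0 from rfl, CohCmpLib.ger_zero]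
  obtain ⟨i, hi⟩ := hcov y
  obtain ⟨g, hgV, hyg⟩ := QCohLib.exists_basicOpen_nhd (hU i) hy hi
  obtain ⟨k, t, ht⟩ := (QCohLib.localizingAt_of_isQCoh (hU i) P g).exists_extend (res P hgV s)
  obtain ⟨w, hw⟩ := (isUnit_res_basic g).pow k
  have h1 : (↑w : Γ(X, X.basicOpen g)) • φ.app _ (res P hgV s) = 0 := by
    rw [← QCohLib.app_smul, hw, ← ht, QCohLib.app_map, h, map_zero]
  have h2 : φ.app _ (res P hgV s) = 0 := by
    rw [← one_smul Γ(X, X.basicOpen g) (φ.app _ (res P hgV s)), ← Units.inv_mul w, mul_smul, h1, smul_zero]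
  rw [← ger_res Q hgV y hyg]
  show ger Q y hyg (Q.presheaf.map (homOfLE hgV).op (φ.app V s)) = 0
  rw [← QCohLib.app_map, show φ.app (X.basicOpen g) (P.presheaf.map (homOfLE hgV).op s) = 0 from h2]
  exact CohCmpLib.ger_zero _ y _

section Formal

variable {A : Type u} [CommRing A] [IsNoetherianRing A] [X.Over (Spec (CommRingCat.of A))] (I : Ideal A) (M N : X.Modules)

/-- `Hom(M, N / I^n N)`. -/
abbrev lvl (n : ℕ) : X.Modules := homMod M (Formal.modPow I n N)

/-- `Hom(M, N) ⟶ Hom(M, N / I^n N)`. -/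
abbrev toLvl (n : ℕ) : homMod M N ⟶ lvl I M N n := mapR M (Formal.modPowπ I n N)

/-- The transition maps. -/
abbrev trLvl {n m : ℕ} (h : n ≤ m) : lvl I M N m ⟶ lvl I M N n := mapR M (Formal2.modPowLE I h N)

lemma toLvl_trLvl {n m : ℕ} (h : n ≤ m) : toLvl I M N m ≫ trLvl I M N h = toLvl I M N n := by
  rw [← mapR_comp, Formal2.modPowπ_modPowLE]

lemma modPowLE_comp {n m l : ℕ} (h : n ≤ m) (h' : m ≤ l) :
    Formal2.modPowLE I h' N ≫ Formal2.modPowLE I h N = Formal2.modPowLE I (h.trans h') N := by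
  apply (cancel_epi (Formal.modPowπ I l N)).1
  rw [← Category.assoc, Formal2.modPowπ_modPowLE, Formal2.modPowπ_modPowLE, Formal2.modPowπ_modPowLE]

lemma trLvl_comp {n m l : ℕ} (h : n ≤ m) (h' : m ≤ l) :
    trLvl I M N h' ≫ trLvl I M N h = trLvl I M N (h.trans h') := by
  rw [← mapR_comp, modPowLE_comp]

lemma smul_toLvl (n : ℕ) {a : A} (ha : a ∈ I ^ n) :
    Formal.smulMod A (homMod M N) a ≫ toLvl I M N n = 0 := by
  refine mapR_ext fun W s m => ?_
  show happ ((toLvl I M N n).app W (secMap (Formal.smulMod A (homMod M N) a) W (toSec A _ W s))) m = _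
  rw [FormalLib.smulMod_app, FormalLib.smul_toSec]
  show happ ((toLvl I M N n).app W (rhoA A W a • s)) m = happ (0 : Γ(lvl I M N n, W)) m
  rw [happ_mapR, happ_smul_left, ← lin_apply (0 : Γ(lvl I M N n, W)), map_zero]
  show secMap (Formal.modPowπ I n N) W (toSec A N W (rhoA A W a • happ s m)) = 0
  rw [← FormalLib.smul_toSec]
  exact FormalLib.secMap_modPowπ_eq_zero N I n W (Submodule.smul_mem_smul ha trivial)

section Affine

variable {U : X.Opens}

lemma mem_map_smul_of_mem {P : X.Modules} {J : Ideal A} {x : Γ(P, U)}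
    (h : toSec A P U x ∈ (J • ⊤ : Submodule A (Sec A P U))) :
    x ∈ (J.map (rhoA A U) • ⊤ : Submodule Γ(X, U) Γ(P, U)) := by
  refine Submodule.smul_induction_on (p := fun z => (toSec A P U).symm z ∈ (J.map (rhoA A U) • ⊤ : Submodule Γ(X, U) Γ(P, U)))
    h (fun r hr z _ => ?_) fun z z' hz hz' => ?_
  · exact Submodule.smul_mem_smul (Ideal.mem_map_of_mem _ hr) trivial
  · rw [map_add]; exact add_mem hz hz'

lemma app_eq_zero_of_mem [Coh.IsQCoh N] {n : ℕ} {x : Γ(N, U)}
    (h : x ∈ ((I.map (rhoA A U)) ^ n • ⊤ : Submodule Γ(X, U) Γ(N, U))) : (Formal.modPowπ I n N).app U x = 0 := by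
  rw [← Ideal.map_pow] at h
  suffices ((I ^ n).map (rhoA A U) • ⊤ : Submodule Γ(X, U) Γ(N, U)) ≤
      LinearMap.ker (QCohLib.appLin (Formal.modPowπ I n N) U) from this h
  refine Submodule.smul_le.2 fun r hr z _ => ?_
  induction hr using Submodule.span_induction with
  | mem r hr =>
    obtain ⟨a, ha, rfl⟩ := hr
    exact FormalLib.secMap_modPowπ_eq_zero N I n U (x := toSec A N U (rhoA A U a • z))
      (Submodule.smul_mem_smul (n := toSec A N U z) ha trivial)
  | zero => rw [zero_smul]; exact zero_mem _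
  | add r r' _ _ hr hr' => rw [add_smul]; exact add_mem hr hr'
  | smul r r' _ hr => rw [smul_assoc]; exact Submodule.smul_mem _ r hr

lemma mem_of_app_eq_zero [Coh.IsQCoh N] (hU : IsAffineOpen U) {n : ℕ} {x : Γ(N, U)}
    (h : (Formal.modPowπ I n N).app U x = 0) : x ∈ ((I.map (rhoA A U)) ^ n • ⊤ : Submodule Γ(X, U) Γ(N, U)) := by
  rw [← Ideal.map_pow]
  exact mem_map_smul_of_mem ((FormalLib.ker_secMap_modPowπ N I n hU).le h)

variable (hM : Coh.IsCoh M) (hN : Coh.IsCoh N) [IsLocallyNoetherian X] (hU : IsAffineOpen U)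

include hM hN hU

/-- The two bounds on an affine open. -/
theorem exists_bound_affine : ∃ c : ℕ, ∀ c', c ≤ c' → ∀ n,
    (∀ x : Γ(lvl I M N (n + c'), U), ∃ h : Γ(homMod M N, U),
      (toLvl I M N n).app U h = (trLvl I M N (Nat.le_add_right n c')).app U x) ∧
    ∀ h : Γ(homMod M N, U), (toLvl I M N (n + c')).app U h = 0 → (Formal.modPowπ I n (homMod M N)).app U h = 0 := by
  have : Coh.IsQCoh M := hM.1
  have : Coh.IsQCoh N := hN.1
  have : Coh.IsQCoh (homMod M N) := (isCoh_homMod hM hN).1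
  have : IsNoetherianRing Γ(X, U) := IsLocallyNoetherian.component_noetherian ⟨U, hU⟩
  have := QCohLib.finite_of_isFT hM.2 hU
  have := QCohLib.finite_of_isFT hN.2 hU
  obtain ⟨c, hc1, hc2⟩ := exists_hom_bound (M := Γ(M, U)) (N := Γ(N, U)) (I.map (rhoA A U))
  have hmono : ∀ {P : X.Modules} {a b : ℕ}, a ≤ b → ∀ {z : Γ(P, U)},
      z ∈ ((I.map (rhoA A U)) ^ b • ⊤ : Submodule Γ(X, U) Γ(P, U)) →
      z ∈ ((I.map (rhoA A U)) ^ a • ⊤ : Submodule Γ(X, U) Γ(P, U)) := fun h z hz =>
    Submodule.smul_mono_left (Ideal.pow_le_pow_right h) hz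
  refine ⟨c, fun c' hcc n => ⟨fun x => ?_, fun h hh => ?_⟩⟩
  · choose z hz using fun m : Γ(M, U) => FormalLib.secMap_modPowπ_surjective (A := A) N I (n + c') hU
      (toSec A _ U (happ x m))
    let q := QCohLib.appLin (Formal.modPowπ I (n + c') N) U
    let zf : Γ(M, U) → Γ(N, U) := fun m => (toSec A N U).symm (z m)
    have hq : ∀ m, q (zf m) = happ x m := hz
    obtain ⟨f, hf⟩ := hc1 n zf
      (fun m m' => hmono (show n + c ≤ n + c' by omega) (mem_of_app_eq_zero I N hU (show q _ = 0 by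
        rw [map_sub, map_add, hq, hq, hq, happ_add_right, sub_self])))
      (fun r m => hmono (show n + c ≤ n + c' by omega) (mem_of_app_eq_zero I N hU (show q _ = 0 by
        rw [map_sub, map_smul, hq, hq, happ_smul_right, sub_self])))
    obtain ⟨h, hh⟩ := (lin_bijective (N := N) hU).2 f
    refine ⟨h, (lin_bijective (M := M) hU).1 (LinearMap.ext fun m => ?_)⟩
    rw [lin_apply, lin_apply, happ_mapR, happ_mapR, ← hq, ← lin_apply h, hh]
    show (Formal.modPowπ I n N).app U (f m) =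
      (Formal.modPowπ I (n + c') N ≫ Formal2.modPowLE I (Nat.le_add_right n c') N).app U (zf m)
    rw [Formal2.modPowπ_modPowLE, ← sub_eq_zero, ← map_sub]
    exact app_eq_zero_of_mem I N (hf m)
  · have h1 := hc2 n (lin U h) fun m => hmono (show n + c ≤ n + c' by omega) (mem_of_app_eq_zero I N hU (by
      rw [lin_apply, ← happ_mapR, hh, ← lin_apply, map_zero]; rfl))
    refine app_eq_zero_of_mem I (homMod M N) ?_
    let e := LinearEquiv.ofBijective (lin (M := M) (N := N) U) (lin_bijective hU)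
    have h2 := Submodule.mem_map_of_mem (f := e.symm.toLinearMap) h1
    rw [Submodule.map_smul''] at h2
    have h3 : e.symm.toLinearMap (lin U h) = h := e.symm_apply_apply h
    rw [h3] at h2
    exact Submodule.smul_mono le_rfl le_top h2

end Affine

variable (hM : Coh.IsCoh M) (hN : Coh.IsCoh N) [AlgebraicGeometry.IsNoetherian X]

include hM hN

/-- **The pro-isomorphism.** -/
theorem exists_proIso : ∃ (c : ℕ) (σ : ∀ n, lvl I M N (n + c + c) ⟶ Formal.modPow I n (homMod M N)),
    (∀ n, σ (n + 1) ≫ Formal2.modPowLE I (Nat.le_succ n) (homMod M N) =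
      trLvl I M N (show n + c + c ≤ n + 1 + c + c by omega) ≫ σ n) ∧
    (∀ n, toLvl I M N (n + c + c) ≫ σ n = Formal.modPowπ I n (homMod M N)) ∧
    (∀ n {Y : X.Modules} (g : Formal.modPow I n (homMod M N) ⟶ Y) (g' : lvl I M N n ⟶ Y),
      Formal.modPowπ I n (homMod M N) ≫ g = toLvl I M N n ≫ g' →
        σ n ≫ g = trLvl I M N (show n ≤ n + c + c by omega) ≫ g') ∧
    (∀ n, kernel.ι (toLvl I M N (n + c)) ≫ Formal.modPowπ I n (homMod M N) = 0) := by
  have : Coh.IsQCoh M := hM.1
  have : Coh.IsQCoh N := hN.1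
  have hH := isCoh_homMod hM hN
  have : Coh.IsQCoh (homMod M N) := hH.1
  obtain ⟨U, hUcov⟩ := (isCompact_univ (X := X)).elim_finite_subcover (fun V : X.affineOpens => (V.1 : Set X))
    (fun V => V.1.isOpen) (fun p _ => by
      obtain ⟨V, hV, hp⟩ := QCohLib.exists_affine_nhd p
      exact Set.mem_iUnion.mpr ⟨⟨V, hV⟩, hp⟩)
  choose cU hcU using fun V : X.affineOpens => exists_bound_affine I M N hM hN V.2
  let c := U.sup cU
  have hcov : ∀ x : X, ∃ V : U, x ∈ V.1.1 := fun x => by
    obtain ⟨V, hV, hx⟩ := Set.mem_iUnion₂.mp (hUcov (Set.mem_univ x))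
    exact ⟨⟨V, hV⟩, hx⟩
  have hc : ∀ V : U, cU V.1 ≤ c := fun V => Finset.le_sup V.2
  have hlvl : ∀ m, Coh.IsQCoh (lvl I M N m) := fun m =>
    (isCoh_homMod hM (QCohLib.isCoh_cokernel _ (QCohLib.isQCoh_sigma _ fun _ => hN.1) hN)).1
  have h1 : ∀ n, trLvl I M N (Nat.le_add_right n c) ≫ cokernel.π (toLvl I M N n) = 0 := fun n => by
    have := hlvl (n + c)
    refine eq_zero_of_app _ (fun V : U => V.1.1) (fun V => V.1.2) hcov fun V x => ?_
    obtain ⟨h, hh⟩ := ((hcU V.1) c (hc V) n).1 x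
    refine (congrArg ((cokernel.π (toLvl I M N n)).app V.1.1) hh.symm).trans ?_
    exact congrArg (fun φ : homMod M N ⟶ _ => φ.app V.1.1 h) (cokernel.condition (toLvl I M N n))
  have h2 : ∀ n, kernel.ι (toLvl I M N (n + c)) ≫ Formal.modPowπ I n (homMod M N) = 0 := fun n => by
    have := hlvl (n + c)
    have : Coh.IsQCoh (kernel (toLvl I M N (n + c))) := QCohLib.isQCoh_kernel _
    refine eq_zero_of_app _ (fun V : U => V.1.1) (fun V => V.1.2) hcov fun V x => ?_
    refine ((hcU V.1) c (hc V) n).2 _ ?_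
    exact congrArg (fun φ : kernel (toLvl I M N (n + c)) ⟶ _ => φ.app V.1.1 x) (kernel.condition (toLvl I M N (n + c)))
  let q : ∀ n, Abelian.image (toLvl I M N (n + c)) ⟶ Formal.modPow I n (homMod M N) := fun n =>
    (Abelian.coimageImageComparison (toLvl I M N (n + c)) |> asIso).inv ≫ cokernel.desc _ _ (h2 n)
  have hq : ∀ n, Abelian.factorThruImage (toLvl I M N (n + c)) ≫ q n = Formal.modPowπ I n (homMod M N) := fun n => by
    have e : Abelian.coimage.π (toLvl I M N (n + c)) ≫ Abelian.coimageImageComparison (toLvl I M N (n + c)) =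
        Abelian.factorThruImage (toLvl I M N (n + c)) := by
      apply (cancel_mono (Abelian.image.ι (toLvl I M N (n + c)))).1
      rw [Category.assoc, Abelian.coimage_image_factorisation, Abelian.image.fac]
    rw [← e]
    simp [q]
  let l : ∀ n, lvl I M N (n + c) ⟶ Abelian.image (toLvl I M N n) := fun n =>
    kernel.lift _ (trLvl I M N (Nat.le_add_right n c)) (h1 n)
  have hl : ∀ n, l n ≫ Abelian.image.ι (toLvl I M N n) = trLvl I M N (Nat.le_add_right n c) := fun n =>
    kernel.lift_ι _ _ _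
  refine ⟨c, fun n => l (n + c) ≫ q n, fun n => ?_, fun n => ?_, fun n Y g g' hg => ?_, h2⟩
  · let w : Abelian.image (toLvl I M N (n + 1 + c)) ⟶ Abelian.image (toLvl I M N (n + c)) :=
      kernel.lift _ (Abelian.image.ι (toLvl I M N (n + 1 + c)) ≫ trLvl I M N (show n + c ≤ n + 1 + c by omega)) (by
        apply (cancel_epi (Abelian.factorThruImage (toLvl I M N (n + 1 + c)))).1
        rw [comp_zero, ← Category.assoc, ← Category.assoc, Abelian.image.fac, toLvl_trLvl, cokernel.condition])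
    have hw : w ≫ Abelian.image.ι (toLvl I M N (n + c)) =
        Abelian.image.ι (toLvl I M N (n + 1 + c)) ≫ trLvl I M N (show n + c ≤ n + 1 + c by omega) := kernel.lift_ι _ _ _
    have e1 : l (n + 1 + c) ≫ w = trLvl I M N (show n + c + c ≤ n + 1 + c + c by omega) ≫ l (n + c) := by
      apply (cancel_mono (Abelian.image.ι (toLvl I M N (n + c)))).1
      rw [Category.assoc, hw, ← Category.assoc, hl, trLvl_comp, Category.assoc, hl, trLvl_comp]
    have e2 : w ≫ q n = q (n + 1) ≫ Formal2.modPowLE I (Nat.le_succ n) (homMod M N) := by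
      apply (cancel_epi (Abelian.factorThruImage (toLvl I M N (n + 1 + c)))).1
      rw [← Category.assoc _ (q (n + 1)), hq, Formal2.modPowπ_modPowLE, ← hq n, ← Category.assoc]
      congr 1
      apply (cancel_mono (Abelian.image.ι (toLvl I M N (n + c)))).1
      rw [Category.assoc, hw, ← Category.assoc, Abelian.image.fac, toLvl_trLvl, Abelian.image.fac]
    rw [Category.assoc, ← e2, ← Category.assoc, e1, Category.assoc]
  · rw [← hq n, ← Category.assoc]
    congr 1
    apply (cancel_mono (Abelian.image.ι (toLvl I M N (n + c)))).1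
    rw [Category.assoc, hl, toLvl_trLvl, Abelian.image.fac]
  · have e : q n ≫ g = Abelian.image.ι (toLvl I M N (n + c)) ≫ trLvl I M N (Nat.le_add_right n c) ≫ g' := by
      apply (cancel_epi (Abelian.factorThruImage (toLvl I M N (n + c)))).1
      rw [← Category.assoc, hq, ← Category.assoc _ (Abelian.image.ι _), Abelian.image.fac, ← Category.assoc,
        toLvl_trLvl, hg]
    rw [Category.assoc, e, ← Category.assoc, hl, ← Category.assoc, trLvl_comp]

end Formal

end HomCohLib

end
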