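import Groth.Agent.CohCmpLib.HomMod
import Groth.Agent.QCohLib.AffineFinite

/-!
# Sections of the sheaf of homomorphisms on affine opens
-/

set_option autoImplicit false

noncomputable section

universe u

open CategoryTheory CategoryTheory.Limits AlgebraicGeometry TopologicalSpace Opposite
open ProjFormLib (ger res ger_res ger_smul ger_add ger_map exists_ger section_ext)
open CohCmpLib (homMod hVal happ ger_happ hVal_res hVal_smul hVal_add homMod_ext stk ger_zero homSec)

namespace HomCohLib

variable {X : Scheme.{u}} {M N : X.Modules} {U : X.Opens}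

lemma res_smul (M : X.Modules) {V : X.Opens} (h : V ≤ U) (r : Γ(X, U)) (m : Γ(M, U)) :
    res M h (r • m) = X.presheaf.map (homOfLE h).op r • res M h m :=
  Scheme.Modules.map_smul M (homOfLE h) r m

lemma isUnit_res_basic (g : Γ(X, U)) :
    IsUnit (X.presheaf.map (homOfLE (X.basicOpen_le g)).op g) :=
  X.toRingedSpace.isUnit_res_basicOpen g

lemma isUnit_germ {g : Γ(X, U)} {y : X} (hy : y ∈ U) (hg : y ∈ X.basicOpen g) :
    IsUnit (X.presheaf.germ U y hy g) :=
  (X.mem_basicOpen g y hy).1 hg

section Loc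

variable (hU : IsAffineOpen U) [Coh.IsQCoh M]

include hU in
/-- Germs are fractions of global sections. -/
lemma exists_frac (y : X) (hy : y ∈ U) (a : stk M y) :
    ∃ (g : Γ(X, U)) (m : Γ(M, U)), IsUnit (X.presheaf.germ U y hy g) ∧
      X.presheaf.germ U y hy g • a = ger M y hy m := by
  obtain ⟨V, hyV, t, rfl⟩ := exists_ger M y a
  obtain ⟨g, hgV, hyg⟩ := QCohLib.exists_basicOpen_nhd hU hyV hy
  obtain ⟨k, m, hm⟩ := (QCohLib.localizingAt_of_isQCoh hU M g).exists_extend (res M hgV t)
  refine ⟨g ^ k, m, ?_, ?_⟩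
  · rw [map_pow]; exact (isUnit_germ hy hyg).pow k
  · have h := congrArg (ger M y hyg) hm
    rw [show (M.presheaf.map (homOfLE (X.basicOpen_le g)).op m) = res M (X.basicOpen_le g) m from rfl, ger_res,
      ger_smul, ger_res] at h
    rw [h, ← map_pow, TopCat.Presheaf.germ_res_apply]

include hU in
/-- Sections with vanishing germ are killed by a function not vanishing there. -/
lemma exists_kill (y : X) (hy : y ∈ U) (m : Γ(M, U)) (h : ger M y hy m = 0) :
    ∃ g : Γ(X, U), IsUnit (X.presheaf.germ U y hy g) ∧ g • m = 0 := by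
  obtain ⟨W, hyW, iU, iV, hW⟩ := M.presheaf.germ_eq y hy hy m 0 (h.trans (ger_zero M y hy).symm)
  obtain ⟨g, hgW, hyg⟩ := QCohLib.exists_basicOpen_nhd hU hyW hy
  have h0 : M.presheaf.map (homOfLE (X.basicOpen_le g)).op m = 0 := by
    have := congrArg (res M hgW) hW
    rw [map_zero] at this
    simp only [res] at this
    rw [map_zero, ← ConcreteCategory.comp_apply, ← M.presheaf.map_comp] at this
    exact this
  obtain ⟨k, hk⟩ := (QCohLib.localizingAt_of_isQCoh hU M g).eq_zero m h0
  refine ⟨g ^ k, ?_, ?_⟩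
  · rw [map_pow]; exact (isUnit_germ hy hyg).pow k
  · refine Eq.trans ?_ hk
    congr 2
    exact (ConcreteCategory.congr_hom (X.presheaf.map_id (op U)) g).symm

include hU in
/-- Two homomorphisms agreeing on the sections of an affine open are equal. -/
lemma hom_ext {V : X.Opens} (hVU : V ≤ U) (h h' : Γ(homMod M N, V))
    (H : ∀ (m : Γ(M, U)), happ h (res M hVU m) = happ h' (res M hVU m)) : h = h' := by
  refine homMod_ext fun y hy => LinearMap.ext fun a => ?_
  obtain ⟨g, m, hg, hga⟩ := exists_frac hU y (hVU hy) a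
  refine (hg.smul_left_cancel).1 ?_
  rw [← map_smul, ← map_smul, hga, ← ger_res M hVU y hy m, ← ger_happ, ← ger_happ, H]

variable (f : Γ(M, U) →ₗ[Γ(X, U)] Γ(N, U))

include hU in
lemma stalk_wellDefined (y : X) (hy : y ∈ U) {g g' : Γ(X, U)} {m m' : Γ(M, U)} {a : stk M y}
    (h : X.presheaf.germ U y hy g • a = ger M y hy m) (h' : X.presheaf.germ U y hy g' • a = ger M y hy m') :
    X.presheaf.germ U y hy g' • ger N y hy (f m) = X.presheaf.germ U y hy g • ger N y hy (f m') := by
  have h0 : ger M y hy (g' • m - g • m') = 0 := by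
    rw [sub_eq_add_neg, ger_add, CohCmpLib.ger_neg, ger_smul, ger_smul, ← h, ← h', smul_comm, add_neg_cancel]
  obtain ⟨c, hc, hc0⟩ := exists_kill hU y hy _ h0
  refine (hc.smul_left_cancel).1 ?_
  rw [← ger_smul, ← ger_smul, ← ger_smul, ← ger_smul]
  refine congrArg (ger N y hy) ?_
  rw [← map_smul f g' m, ← map_smul f g m', ← map_smul f c, ← map_smul f c]
  exact congrArg f (sub_eq_zero.1 ((smul_sub c (g' • m) (g • m')).symm.trans hc0))

include hU in
/-- The map on a stalk induced by a map on the sections. -/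
theorem exists_stalkMap (y : X) (hy : y ∈ U) :
    ∃ L : stk M y →ₗ[X.presheaf.stalk y] stk N y, ∀ m, L (ger M y hy m) = ger N y hy (f m) := by
  choose g m hg hgm using exists_frac (M := M) hU y hy
  choose v hv using fun a => (hg a).exists_left_inv
  let L : stk M y → stk N y := fun a => v a • ger N y hy (f (m a))
  have hL : ∀ a (g' : Γ(X, U)) (m' : Γ(M, U)), X.presheaf.germ U y hy g' • a = ger M y hy m' →
      X.presheaf.germ U y hy g' • L a = ger N y hy (f m') := by
    intro a g' m' h
    show X.presheaf.germ U y hy g' • v a • ger N y hy (f (m a)) = _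
    rw [smul_comm, stalk_wellDefined hU f y hy (hgm a) h, ← mul_smul, hv, one_smul]
  refine ⟨{ toFun := L, map_add' := fun a b => ?_, map_smul' := fun r a => ?_ }, fun m' => ?_⟩
  · refine (((hg a).mul (hg b)).smul_left_cancel).1 ?_
    have h : X.presheaf.germ U y hy (g a * g b) • (a + b) = ger M y hy (g b • m a + g a • m b) := by
      rw [map_mul, smul_add, ger_add, ger_smul, ger_smul, ← hgm, ← hgm, ← mul_smul, ← mul_smul, mul_comm]
    have h' := hL _ _ _ h
    rw [map_mul] at h'
    rw [h', map_add, ger_add, map_smul, map_smul, ger_smul, ger_smul, ← hL a _ _ (hgm a), ← hL b _ _ (hgm b)]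
    generalize L a = la
    generalize L b = lb
    module
  · letI : Algebra Γ(X, U) (X.presheaf.stalk y) := (X.presheaf.germ U y hy).hom.toAlgebra
    haveI : IsLocalization.AtPrime (X.presheaf.stalk y) (hU.primeIdealOf ⟨y, hy⟩).asIdeal :=
      hU.isLocalization_stalk ⟨y, hy⟩
    obtain ⟨⟨b, c⟩, hbc⟩ := IsLocalization.surj (hU.primeIdealOf ⟨y, hy⟩).asIdeal.primeCompl r
    have hc : IsUnit (X.presheaf.germ U y hy c.1) :=
      IsLocalization.map_units (X.presheaf.stalk y) c
    have hbc' : r * X.presheaf.germ U y hy c.1 = X.presheaf.germ U y hy b := hbc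
    refine ((hc.mul (hg a)).smul_left_cancel).1 ?_
    have h : X.presheaf.germ U y hy (c.1 * g a) • (r • a) = ger M y hy (b • m a) := by
      rw [map_mul, ger_smul, ← hgm, ← hbc']
      module
    have h' := hL _ _ _ h
    rw [map_mul] at h'
    rw [h', map_smul, ger_smul, ← hL a _ _ (hgm a), ← hbc', RingHom.id_apply]
    generalize L a = la
    module
  · obtain h := hL (ger M y hy m') 1 m' (by rw [map_one, one_smul])
    rwa [map_one, one_smul] at h

include hU in
/-- A map of the sections on an affine open extends to a homomorphism. -/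
theorem exists_hom (f : Γ(M, U) →ₗ[Γ(X, U)] Γ(N, U)) :
    ∃ h : Γ(homMod M N, U), ∀ m, happ h m = f m := by
  choose L hL using exists_stalkMap hU f
  refine ⟨(⟨fun y => L y.1 y.2, fun V hV m => CohCmpLib.exists_section_of_germs N
    (fun y : V => L y.1 (hV y.2) (ger M y.1 y.2 m)) fun y => ?_⟩ : homSec M N U),
    fun m => section_ext _ _ fun y hy => (ger_happ _ m y hy).trans (hL y hy m)⟩
  obtain ⟨g, hgV, hyg⟩ := QCohLib.exists_basicOpen_nhd hU y.2 (hV y.2)
  obtain ⟨k, m₀, hm⟩ := (QCohLib.localizingAt_of_isQCoh hU M g).exists_extend (res M hgV m)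
  obtain ⟨w, hw⟩ := (isUnit_res_basic g).pow k
  refine ⟨X.basicOpen g, hgV, hyg,
    (↑w⁻¹ : Γ(X, X.basicOpen g)) • res N (X.basicOpen_le g) (f m₀), fun z hz => ?_⟩
  have h1 := congrArg (ger M z hz) hm
  rw [show (M.presheaf.map (homOfLE (X.basicOpen_le g)).op m₀) = res M (X.basicOpen_le g) m₀ from rfl, ← hw,
    ger_res, ger_smul, ger_res] at h1
  rw [ger_smul, ger_res, ← hL z (X.basicOpen_le g hz) m₀, h1, map_smul, ← mul_smul, ← map_mul, Units.inv_mul,
    map_one, one_smul]

end Loc

end HomCohLib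

end
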