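import Groth.Agent.HomCohLib.Coh
import Groth.Agent.MiscFlat6.TildeFin

/-!
# Homomorphisms between tildes
-/

set_option autoImplicit false

noncomputable section

universe u

open CategoryTheory CategoryTheory.Limits AlgebraicGeometry TopologicalSpace Opposite
open CohCmpLib (homMod happ)

namespace HomCohLib

variable {R : CommRingCat.{u}} (M N : ModuleCat.{u} R)

/-- Global sections as linear maps. -/
def topLin : Γ(homMod (tilde M) (tilde N), (⊤ : (Spec R).Opens)) →ₗ[R]
    (Γ(tilde M, (⊤ : (Spec R).Opens)) →ₗ[R] Γ(tilde N, (⊤ : (Spec R).Opens))) where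
  toFun s := (lin ⊤ s).restrictScalars R
  map_add' s t := by rw [map_add]; rfl
  map_smul' r s := LinearMap.ext fun m => by
    show happ (r • s) m = r • happ s m
    rw [Scheme.Modules.smul_Spec_def, Scheme.Modules.smul_Spec_def, happ_smul_left]

theorem topLin_bijective : Function.Bijective (topLin M N) := by
  have := MiscFlat6.isQCoh_tilde M
  refine ⟨fun s t h => (lin_bijective (isAffineOpen_top _)).1 (LinearMap.ext fun m => LinearMap.congr_fun h m),
    fun f => ?_⟩
  have hsurj : Function.Surjective fun r : R =>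
      ((Spec R).presheaf.map (⊤ : (Spec R).Opens).leTop.op) ((Scheme.ΓSpecIso R).inv r) := by
    intro c
    obtain ⟨r, rfl⟩ := (ConcreteCategory.bijective_of_isIso (Scheme.ΓSpecIso R).inv).2 c
    exact ⟨r, ConcreteCategory.congr_hom ((Spec R).presheaf.map_id _) _⟩
  let f' : Γ(tilde M, (⊤ : (Spec R).Opens)) →ₗ[Γ(Spec R, ⊤)] Γ(tilde N, (⊤ : (Spec R).Opens)) :=
    { toFun := f, map_add' := f.map_add, map_smul' := fun c m => by
        obtain ⟨r, rfl⟩ := hsurj c
        exact f.map_smul r m }
  obtain ⟨s, hs⟩ := (lin_bijective (M := tilde M) (N := tilde N) (isAffineOpen_top _)).2 f'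
  exact ⟨s, LinearMap.ext fun m => LinearMap.congr_fun hs m⟩

/-- **Homomorphisms between tildes.** -/
theorem nonempty_homMod_tilde_iso [Module.FinitePresentation R M] :
    Nonempty (homMod (tilde M) (tilde N) ≅ tilde (ModuleCat.of R (M →ₗ[R] N))) := by
  have := MiscFlat6.isQCoh_tilde M
  have := MiscFlat6.isQCoh_tilde N
  have := MiscFlat6.finitePresentation_top M
  let H := homMod (tilde M) (tilde N)
  have hq : Coh.IsQCoh H := QCohLib.isQCoh_of_localizingAt H (fun _ : PUnit.{u+1} => ⊤)
    (fun _ => isAffineOpen_top _) (iSup_const) fun _ g => localizingAt_homMod (isAffineOpen_top _) g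
  have : IsIso H.fromTildeΓ := (isQuasicoherent_iff_isIso_fromTildeΓ _).1 hq
  let e : moduleSpecΓFunctor.obj H ≃ₗ[R] (M →ₗ[R] N) :=
    (LinearEquiv.ofBijective (topLin M N) (topLin_bijective M N)).trans
      ((tilde.isoTop M).toLinearEquiv.arrowCongr (tilde.isoTop N).toLinearEquiv).symm
  exact ⟨(asIso H.fromTildeΓ).symm ≪≫ (tilde.functor R).mapIso e.toModuleIso⟩

end HomCohLib

end
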